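import Groth.Agent.DCohShriek.DualModuleField
import Groth.Agent.DCohShriek.AffineAdjoint
import Groth.Agent.ShriekAffine.CMShriek
import Groth.Agent.S3603
import Groth.Agent.S1762
import Groth.Agent.Dual3XI.Main
import Groth.Agent.DualGeneric.Basic
import Groth.Agent.FlatLimMod.Basic

/-!
# Surjectivity of the trace of a flat proper Cohen-Macaulay scheme over a Noetherian ring
-/

set_option autoImplicit false
set_option backward.isDefEq.respectTransparency false
set_option backward.isDefEq.respectTransparency.types false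
set_option linter.style.haveILetI false
set_option linter.unusedSectionVars false
set_option synthInstance.maxHeartbeats 100000
set_option maxHeartbeats 800000

universe u

open CategoryTheory Limits Pretriangulated AlgebraicGeometry

attribute [local instance] HasDerivedCategory.standard

noncomputable section

namespace Groth.Agent.TraceSurj

open Groth.Agent.DCohShriek
open Groth.Agent.DQCoh (RD)
open Groth.Agent.PerfGen (hdRD isQCohD_shift)

/-- a dualizing complex on a nonempty scheme is not zero -/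
theorem not_forall_isZero_HD {X : Scheme.{u}} [IsLocallyNoetherian X] [Nonempty X]
    [∀ (U : Scheme.{u}) (j : U ⟶ X) [IsOpenImmersion j], PreservesFiniteLimits (Scheme.Modules.restrictFunctor j)]
    [∀ (R : CommRingCat.{u}), PreservesFiniteLimits (tilde.functor R)]
    {K : DCoh.D X} (hK : Dual2.IsDualizingSch X K) : ¬ ∀ i, IsZero (DCoh.HD K i) := by
  intro h
  obtain ⟨x⟩ := ‹Nonempty X›
  obtain ⟨w, hw, hst⟩ := DualGeneric.exists_local_all hK x
  haveI := hw.isNoetherianRing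
  obtain ⟨⟨p, hp⟩⟩ := Ideal.nonempty_minimalPrimes (I := (⊥ : Ideal (X.presheaf.stalk x))) (bot_lt_top).ne
  obtain ⟨i, hi, -⟩ := S1762.result (X.presheaf.stalk x) w hw p hp
  obtain ⟨e⟩ := hst i
  haveI : Subsingleton ((DCoh.HD K i).presheaf.stalk x) :=
    AddCommGrpCat.subsingleton_of_isZero
      (((Scheme.Modules.toPresheaf X) ⋙ TopCat.Presheaf.stalkFunctor AddCommGrpCat.{u} x).map_isZero (h i))
  haveI : Subsingleton (Dual.HD (X.presheaf.stalk x) w i) := e.symm.toEquiv.subsingleton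
  haveI : p.IsPrime := hp.1.1
  exact not_subsingleton_iff_nontrivial.2 hi inferInstance

/-- `O` on an affine scheme is the tilde of the unit -/
def tildeUnitIso' (A : Type u) [CommRing A] : (DCoh.tildeD (CommRingCat.of A)).obj (unitD A) ≅
    DCoh.inD (Spec (CommRingCat.of A)) (Coh.structureModule _) :=
  ((tilde.functor (CommRingCat.of A)).mapDerivedCategorySingleFunctor 0).app (ModuleCat.of A A) ≪≫
    (DerivedCategory.singleFunctor _ 0).mapIso (tildeSelf (R := CommRingCat.of A))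

variable {A : Type u} [CommRing A] [IsNoetherianRing A] {X : Scheme.{u}} [X.Over (Spec (CommRingCat.of A))]
  [IsProper (X ↘ Spec (CommRingCat.of A))] [Flat (X ↘ Spec (CommRingCat.of A))]
  [DCoh.HasRpush (X ↘ Spec (CommRingCat.of A))] {hf : DCoh.RpushPreservesQCoh (X ↘ Spec (CommRingCat.of A))}
  {a : DCoh.DQCoh (Spec (CommRingCat.of A)) ⥤ DCoh.DQCoh X}
  (adj : DCoh.RpushQ (X ↘ Spec (CommRingCat.of A)) hf ⊣ a)

local notation "fX" => X ↘ Spec (CommRingCat.of A)

include adj in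
/-- `a(O ⟶ κ(m))` is not zero -/
theorem map_residue_ne_zero [Surjective (fX)] (m : Ideal A) [m.IsMaximal] (M : Type u) [AddCommGroup M] [Module A M]
    (u : unitD A ⟶ Dual.inD A M)
    (hu : ∀ (N : Type u) [AddCommGroup N] [Module A N], (∀ (r : A), r ∈ m → ∀ x : N, r • x = 0) →
      ∀ v : unitD A ⟶ Dual.inD A N, ∃ w, u ≫ w = v) :
    a.map ((tildeQ A).map u) ≠ 0 := by
  intro h0
  let φ := Ideal.Quotient.mk m
  letI : Field (A ⧸ m) := Ideal.Quotient.field m
  let k := A ⧸ m
  let g : Spec (CommRingCat.of k) ⟶ Spec (CommRingCat.of A) := Spec.map (CommRingCat.ofHom φ)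
  let X' := pullback (fX) g
  let f' : X' ⟶ Spec (CommRingCat.of k) := pullback.snd _ _
  let g' : X' ⟶ X := pullback.fst _ _
  have hsq : IsPullback g' f' (fX) g := IsPullback.of_hasPullback _ _
  haveI : IsProper f' := MorphismProperty.pullback_snd _ _ inferInstance
  haveI := isNoetherian_of_proper f'
  haveI := isNoetherian_of_proper (fX)
  haveI : LocallyOfFinitePresentation (fX) := inferInstance
  haveI : QuasiCompact (fX) := quasiCompact_of_compactSpace (fX)
  haveI : QuasiCompact g' := quasiCompact_of_compactSpace g'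
  haveI : QuasiCompact f' := quasiCompact_of_compactSpace f'
  haveI : QuasiCompact g := quasiCompact_of_compactSpace g
  haveI := DerPush.hasRpush_sch f'
  haveI := DerPush.hasRpush_sch g
  haveI := DerPush.hasRpush_sch g'
  haveI := KFlat.hasLpull g
  haveI := KFlat.hasLpull g'
  have hf' : DCoh.RpushPreservesQCoh f' := fun E hE => DQPush.isQCohD_rpush f' hE
  have hg : DCoh.RpushPreservesQCoh g := fun E hE => DQPush.isQCohD_rpush g hE
  have hg' : DCoh.RpushPreservesQCoh g' := fun E hE => DQPush.isQCohD_rpush g' hE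
  have hLg : Dual3.LpullPreservesQCoh g := fun K hK => DQCoh.isQCohD_Lpull g K hK
  have hLg' : Dual3.LpullPreservesQCoh g' := fun K hK => DQCoh.isQCohD_Lpull g' K hK
  obtain ⟨adj₀⟩ := DerPush.nonempty_lpull_adj_rpush g
  obtain ⟨adj₀'⟩ := DerPush.nonempty_lpull_adj_rpush g'
  let adjg := Dual3XI.adjQ hg hLg adj₀
  let adjg' := Dual3XI.adjQ hg' hLg' adj₀'
  haveI : (DCoh.RpushQ f' hf').IsLeftAdjoint := isLeftAdjoint_rpushQ f' hf'
  let adj' : DCoh.RpushQ f' hf' ⊣ _ := Adjunction.ofIsLeftAdjoint _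
  obtain ⟨e, hξ, hiso⟩ := S3603.result X (Spec (CommRingCat.of A)) X' (Spec (CommRingCat.of k)) (fX) g f' g' hsq
    hf hf' hg hg' a _ adj adj' hLg hLg' adjg adjg'
  let O := (tildeQ A).obj (unitD A)
  let L := (Dual3.LpullQ g hLg).obj O
  obtain ⟨u₀⟩ := PerfPush.nonempty_lpull_unit g
  let eL : L ≅ (tildeQ k).obj (unitD k) := ObjectProperty.isoMk _
    ((DCoh.Lpull g).mapIso (tildeUnitIso' A) ≪≫ u₀ ≪≫ (tildeUnitIso k).symm)
  let N := ((ModuleCat.restrictScalars φ).obj (ModuleCat.of k k))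
  let eP : (DCoh.RpushQ g hg).obj L ≅ (tildeQ A).obj (Dual.inD A N) :=
    (DCoh.RpushQ g hg).mapIso eL ≪≫ (rpushQTildeIso φ (hq := hg)).app (unitD k) ≪≫
      (tildeQ A).mapIso (((ModuleCat.restrictScalars φ).mapDerivedCategorySingleFunctor 0).app (ModuleCat.of k k))
  obtain ⟨v, hv⟩ := (tildeQ A).map_surjective (adjg.unit.app O ≫ eP.hom)
  obtain ⟨w, hw⟩ := hu N (fun r hr x => by
    change φ r * (show k from x) = 0
    rw [Ideal.Quotient.eq_zero_iff_mem.2 hr, zero_mul]) v
  have hη : adjg.unit.app O = (tildeQ A).map u ≫ ((tildeQ A).map w ≫ eP.inv) := by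
    rw [← Category.assoc, ← Functor.map_comp, hw, hv, Category.assoc, Iso.hom_inv_id, Category.comp_id]
  haveI := hiso O
  haveI : (Dual3.LpullQ g' hLg').IsLeftAdjoint := adjg'.isLeftAdjoint
  haveI : (DCoh.RpushQ (fX) hf).IsLeftAdjoint := adj.isLeftAdjoint
  have hb : Dual3.bcMap adj adj' e adjg adjg' O (hξ _) = 0 := by
    rw [Dual3.bcMap, hη, Functor.map_comp a, h0, zero_comp, Functor.map_zero, zero_comp]
  have hz : IsZero ((Functor.rightAdjoint (DCoh.RpushQ f' hf')).obj L) :=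
    IsZero.of_epi_eq_zero _ hb
  have hd := isDualizingSch_adjoint f' adj' L (isDualizingSch_point k ((DCoh.Lpull g).mapIso (tildeUnitIso' A) ≪≫ u₀))
  haveI : Nonempty X' := by
    obtain ⟨x, hx⟩ := (fX).surjective ⟨m, inferInstance⟩
    obtain ⟨z, -⟩ := Scheme.Pullback.exists_preimage_pullback (f := fX) (g := g) x (⊥ : PrimeSpectrum k) (by
      rw [hx]
      exact PrimeSpectrum.ext (Ideal.mk_ker.symm.trans rfl))
    exact ⟨z⟩
  exact not_forall_isZero_HD hd fun i =>
    (ObjectProperty.ι _ ⋙ DerivedCategory.homologyFunctor X'.Modules i).map_isZero hz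

include adj in
/-- the trace of a flat proper Cohen-Macaulay scheme: `a(O) = ω[n]` and the counit has a section -/
theorem exists_trace_data [Surjective (fX)] (hCM : ∀ x : X, MoreMor.IsCMAt (fX) x) (n : ℕ)
    (hd : ∀ x : X, FlatMor.fibreDimAt (fX) x = (n : WithBot ℕ∞))
    (hvan : ∀ F : X.Modules, Coh.IsQCoh F → ∀ p : ℕ, n < p → Subsingleton (Coh.HH X F p)) :
    ∃ (ω : X.Modules) (hω : Coh.IsCoh ω), FlatMod.IsFlatOver (fX) ω ∧
      ∃ (_ : shiftQ ω hω.1 n ≅ a.obj ((tildeQ A).obj (unitD A)))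
        (x : unitD A ⟶ (gammaD hf).obj (a.obj ((tildeQ A).obj (unitD A)))),
        x ≫ (gammaAdj adj).counit.app (unitD A) = 𝟙 _ := by
  haveI := isNoetherian_of_proper (fX)
  let O := (tildeQ A).obj (unitD A)
  let c : DEt.Compactification (fX) :=
    { Xbar := X, j := 𝟙 X, fbar := fX, isOpenImmersion := inferInstance, isProper := inferInstance,
      fac := Category.id_comp _ }
  obtain ⟨hzero, hcoh, hflat⟩ := ShriekAffine.shriek_cm c (a := a) (hc := hf) adj (O := O) ⟨tildeUnitIso' A⟩ hCM n hd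
  let K := (a.obj O).obj
  let er : ∀ i : ℤ, DCoh.HD ((RD (𝟙 X)).obj K) i ≅ DCoh.HD K i := fun i =>
    hdRD (𝟙 X) K i ≪≫ Scheme.Modules.restrictFunctorId.app _
  have hz : ∀ i : ℤ, i ≠ -(n : ℤ) → IsZero (DCoh.HD K i) := fun i hi => (hzero i hi).of_iso (er i).symm
  let ω := DCoh.HD K (-(n : ℤ))
  have hω : Coh.IsCoh ω := DCohShriek.isCoh_iso (er _) hcoh
  haveI : K.IsLE (-(n : ℤ)) := (DerivedCategory.isLE_iff _ _).2 fun i hi => hz i (by omega)
  haveI : K.IsGE (-(n : ℤ)) := (DerivedCategory.isGE_iff _ _).2 fun i hi => hz i (by omega)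
  obtain ⟨M, ⟨e⟩⟩ := DerivedCategory.exists_iso_singleFunctor_obj_of_isGE_of_isLE K (-(n : ℤ))
  let eM : ω ≅ M := (DerivedCategory.homologyFunctor X.Modules (-(n : ℤ))).mapIso e ≪≫
    (DerivedCategory.singleFunctorCompHomologyFunctorIso X.Modules (-(n : ℤ))).app M
  let ψ : shiftQ ω hω.1 n ≅ a.obj O := ObjectProperty.isoMk _
    (((SingleFunctors.shiftIso (DerivedCategory.singleFunctors X.Modules) (n : ℤ) (-(n : ℤ)) 0 (by omega)).app ω) ≪≫
      (DerivedCategory.singleFunctor X.Modules (-(n : ℤ))).mapIso eM ≪≫ e.symm)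
  let ε := ((gammaAdj adj).homEquiv (shiftQ ω hω.1 n) (unitD A)).symm ψ.hom
  obtain ⟨β, -⟩ := exists_hh_gamma hf n
  let s₀ : Dual.HD A (unitD A) 0 ≃ₗ[A] A :=
    ((DerivedCategory.singleFunctorCompHomologyFunctorIso (ModuleCat.{u} A) 0).app (ModuleCat.of A A)).toLinearEquiv
  let g : Coh.HH X ω n →ₗ[A] A := s₀.toLinearMap.comp ((evUnit A (unitD A)).toLinearMap.comp
    ((Linear.rightComp A _ ε).comp (β ω hω.1).toLinearMap))
  have hfl : FlatMod.IsFlatOver (fX) ω := fun x => FlatLimMod.isFlatOverAt_of_iso _ (er _) (hflat x)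
  suffices hsurj : LinearMap.range g = ⊤ by
    obtain ⟨y, hy⟩ := LinearMap.range_eq_top.1 hsurj (s₀ (evUnit A (unitD A) (𝟙 _)))
    let x := β ω hω.1 y
    have hx : x ≫ ε = 𝟙 _ := (evUnit A (unitD A)).injective (s₀.injective hy)
    refine ⟨ω, hω, hfl, ψ, x ≫ (gammaD hf).map ψ.hom, ?_⟩
    exact (Category.assoc _ _ _).trans ((congrArg (x ≫ ·) ((gammaAdj adj).homEquiv_counit _ _ ψ.hom).symm).trans hx)
  by_contra hne
  obtain ⟨m, hm, hle⟩ := Ideal.exists_le_maximal (LinearMap.range g) hne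
  let u : unitD A ⟶ Dual.inD A (A ⧸ m) :=
    (DerivedCategory.singleFunctor (ModuleCat.{u} A) 0).map (ModuleCat.ofHom m.mkQ)
  refine map_residue_ne_zero adj m (A ⧸ m) u (fun N _ _ hN v => ?_) ?_
  · let v₀ := ((Functor.FullyFaithful.ofFullyFaithful (DerivedCategory.singleFunctor (ModuleCat.{u} A) 0)).preimage v).hom
    have hv₀ : m ≤ LinearMap.ker v₀ := fun r hr => by
      rw [LinearMap.mem_ker, show r = r • (1 : A) from (mul_one r).symm, map_smul]
      exact hN r hr _
    refine ⟨(DerivedCategory.singleFunctor (ModuleCat.{u} A) 0).map (ModuleCat.ofHom (m.liftQ v₀ hv₀)), ?_⟩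
    rw [← Functor.map_comp, ← ModuleCat.ofHom_comp, Submodule.liftQ_mkQ]
    exact (Functor.FullyFaithful.ofFullyFaithful _).map_preimage v
  · have h0 : ε ≫ u = 0 := by
      haveI := isLE_gamma (hf := hf) n hvan ω hω.1
      obtain ⟨z, -, huniq⟩ := existsUnique_hom ((gammaD hf).obj (shiftQ ω hω.1 n)) (Dual.inD A (A ⧸ m)) 0
      refine (huniq _ fun x => ?_).trans (huniq 0 fun x => ?_).symm
      · obtain ⟨y, rfl⟩ := (β ω hω.1).surjective x
        rw [← Category.assoc, evUnit_comp, LinearMap.zero_apply]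
        let c := DerivedCategory.singleFunctorCompHomologyFunctorIso (ModuleCat.{u} A) 0
        refine (c.app (ModuleCat.of A (A ⧸ m))).toLinearEquiv.injective ?_
        rw [map_zero]
        refine (LinearMap.congr_fun (ModuleCat.hom_ext_iff.1 (c.hom.naturality (ModuleCat.ofHom m.mkQ))) _).trans ?_
        exact (Submodule.Quotient.mk_eq_zero _).2 (hle ⟨y, rfl⟩)
      · rw [comp_zero, map_zero, LinearMap.zero_apply]
    haveI : (tildeQ A ⋙ a).IsRightAdjoint := (gammaAdj adj).isRightAdjoint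
    haveI : (gammaD (X := X) hf).IsLeftAdjoint := (gammaAdj adj).isLeftAdjoint
    have h1 := (gammaAdj adj).homEquiv_naturality_right ε u
    rw [h0, Equiv.apply_symm_apply, Adjunction.homEquiv_unit, Functor.map_zero, comp_zero] at h1
    exact (cancel_epi ψ.hom).1 (h1.symm.trans comp_zero.symm)

include adj in
/-- the trace `Rf_*(ω[n]) → O` has a section -/
theorem exists_split_trace [Surjective (fX)] (hCM : ∀ x : X, MoreMor.IsCMAt (fX) x) (n : ℕ)
    (hd : ∀ x : X, FlatMor.fibreDimAt (fX) x = (n : WithBot ℕ∞))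
    (hvan : ∀ F : X.Modules, Coh.IsQCoh F → ∀ p : ℕ, n < p → Subsingleton (Coh.HH X F p)) :
    ∃ (ω : X.Modules) (hω : Coh.IsCoh ω), FlatMod.IsFlatOver (fX) ω ∧
      ∃ (p : (DCoh.Rpush (fX)).obj (shiftQ ω hω.1 n).obj ⟶ (DCoh.tildeD (CommRingCat.of A)).obj (unitD A))
        (s : (DCoh.tildeD (CommRingCat.of A)).obj (unitD A) ⟶ (DCoh.Rpush (fX)).obj (shiftQ ω hω.1 n).obj),
        s ≫ p = 𝟙 _ := by
  obtain ⟨ω, hω, hfl, ψ, x, hx⟩ := exists_trace_data adj hCM n hd hvan
  let E := (tildeQ A).asEquivalence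
  let cn := E.counitIso.app ((DCoh.RpushQ (fX) hf).obj (shiftQ ω hω.1 n))
  let ε := (gammaD hf).map ψ.hom ≫ (gammaAdj adj).counit.app (unitD A)
  let x' := x ≫ (gammaD hf).map ψ.inv
  have hx' : x' ≫ ε = 𝟙 _ := by
    rw [Category.assoc, ← Functor.map_comp_assoc, Iso.inv_hom_id, CategoryTheory.Functor.map_id, Category.id_comp, hx]
  refine ⟨ω, hω, hfl, (cn.inv ≫ (tildeQ A).map ε).hom, ((tildeQ A).map x' ≫ cn.hom).hom, ?_⟩
  have h : ((tildeQ A).map x' ≫ cn.hom) ≫ cn.inv ≫ (tildeQ A).map ε = 𝟙 _ := by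
    rw [Category.assoc, Iso.hom_inv_id_assoc]
    exact (Functor.map_comp _ _ _).symm.trans ((congrArg _ hx').trans (CategoryTheory.Functor.map_id _ _))
  exact (congrArg InducedCategory.Hom.hom h :)

end Groth.Agent.TraceSurj
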