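import Groth.Agent.DCohShriek.DualModule
import Groth.Agent.DCohShriek.AffineAdjoint
import Groth.Agent.TraceSurj.Noeth

/-!
# Derived extension of scalars of a complex in nonpositive degrees: `H^0` corepresents
-/

set_option autoImplicit false
set_option backward.isDefEq.respectTransparency false
set_option backward.isDefEq.respectTransparency.types false
set_option linter.style.haveILetI false
set_option linter.unusedSectionVars false
set_option synthInstance.maxHeartbeats 100000
set_option maxHeartbeats 800000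

universe u

open CategoryTheory Limits AlgebraicGeometry TensorProduct

attribute [local instance] HasDerivedCategory.standard

noncomputable section

namespace Groth.Agent.TraceSurj

open Groth.Agent.DCohShriek

variable {A B : Type u} [CommRing A] [CommRing B] (φ : A →+* B)
  [DCoh.HasRpush (Spec.map (CommRingCat.ofHom φ))] [DCoh.HasLpull (Spec.map (CommRingCat.ofHom φ))]


variable {hq : DCoh.RpushPreservesQCoh (Spec.map (CommRingCat.ofHom φ))} {hL : Dual3.LpullPreservesQCoh (Spec.map (CommRingCat.ofHom φ))}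

variable (hL) in
/-- derived extension of scalars, through `Lg^*` -/
abbrev ext₀ : Dual.D A ⥤ Dual.D B :=
  tildeQ A ⋙ Dual3.LpullQ (Spec.map (CommRingCat.ofHom φ)) hL ⋙ (tildeQ B).asEquivalence.inverse

/-- `- ⊗^L B ⊣` restriction -/
def extAdj (adjg : Dual3.LpullQ (Spec.map (CommRingCat.ofHom φ)) hL ⊣ DCoh.RpushQ (Spec.map (CommRingCat.ofHom φ)) hq) : ext₀ φ hL ⊣ DRing.restrictD φ :=
  ((tildeQ A).asEquivalence.toAdjunction.comp (adjg.comp (tildeQ B).asEquivalence.symm.toAdjunction)).ofNatIsoRight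
    (Functor.isoWhiskerRight (rpushQTildeIso φ (hq := hq)) _ ≪≫ Functor.associator _ _ _ ≪≫
      Functor.isoWhiskerLeft _ (tildeQ A).asEquivalence.unitIso.symm ≪≫ Functor.rightUnitor _)

/-- `A ⊗^L B = B` -/
theorem nonempty_ext_unit : Nonempty ((ext₀ φ hL).obj (unitD A) ≅ unitD B) := by
  obtain ⟨u₀⟩ := PerfPush.nonempty_lpull_unit (Spec.map (CommRingCat.ofHom φ))
  let eL : (Dual3.LpullQ (Spec.map (CommRingCat.ofHom φ)) hL).obj ((tildeQ A).obj (unitD A)) ≅ (tildeQ B).obj (unitD B) := ObjectProperty.isoMk _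
    ((DCoh.Lpull (Spec.map (CommRingCat.ofHom φ))).mapIso (tildeUnitIso' A) ≪≫ u₀ ≪≫ (tildeUnitIso' B).symm)
  exact ⟨(tildeQ B).asEquivalence.inverse.mapIso eL ≪≫ (tildeQ B).asEquivalence.unitIso.symm.app _⟩

variable {G : Dual.D A ⥤ Dual.D B} (adjG : G ⊣ DRing.restrictD φ)
  {R : Dual.D A} [R.IsLE 0] (x : unitD A ⟶ R)

include adjG in
/-- maps out of `H^0` killing the section vanish -/
theorem hom_eq_zero (N : Type u) [AddCommGroup N] [Module B N]
    (hN : letI := Module.compHom N φ; ∀ l : Dual.HD A R 0 →ₗ[A] N, l (evUnit A R x) = 0 → l = 0)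
    (ψ : G.obj R ⟶ Dual.inD B N) (hψ : G.map x ≫ ψ = 0) : ψ = 0 := by
  letI := Module.compHom N φ
  haveI : (DRing.restrictD φ).IsRightAdjoint := adjG.isRightAdjoint
  haveI : G.IsLeftAdjoint := adjG.isLeftAdjoint
  apply (adjG.homEquiv _ _).injective
  rw [show adjG.homEquiv R (Dual.inD B N) 0 = 0 by rw [Adjunction.homEquiv_unit, Functor.map_zero, comp_zero]]
  let e : (DRing.restrictD φ).obj (Dual.inD B N) ≅ Dual.inD A N :=
    ((ModuleCat.restrictScalars φ).mapDerivedCategorySingleFunctor 0).app (ModuleCat.of B N)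
  rw [← cancel_mono e.hom, zero_comp]
  let ψ₂ := adjG.homEquiv _ _ ψ ≫ e.hom
  change ψ₂ = 0
  have hx : x ≫ ψ₂ = 0 := by
    rw [← Category.assoc, ← Adjunction.homEquiv_naturality_left, hψ, Adjunction.homEquiv_unit, Functor.map_zero,
      comp_zero, zero_comp]
  let c : Dual.HD A (Dual.inD A N) 0 ≃ₗ[A] N :=
    ((DerivedCategory.singleFunctorCompHomologyFunctorIso (ModuleCat.{u} A) 0).app (ModuleCat.of A N)).toLinearEquiv
  have h0 := hN (c.toLinearMap.comp ((DerivedCategory.homologyFunctor (ModuleCat.{u} A) 0).map ψ₂).hom) (by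
    rw [LinearMap.comp_apply, ← evUnit_comp, hx, map_zero, map_zero])
  refine (homH_bijective R (Dual.inD A N)).1 (ModuleCat.hom_ext (LinearMap.ext fun m => c.injective ?_))
  refine (LinearMap.congr_fun h0 m).trans ?_
  show (0 : N) = c (((DerivedCategory.homologyFunctor (ModuleCat.{u} A) 0).map (0 : R ⟶ Dual.inD A N)).hom m)
  rw [Functor.map_zero]
  exact (map_zero c).symm

include adjG in
/-- `H^0` of the extension is generated by the section -/
theorem exists_smul [(G.obj R).IsLE 0] (eu : G.obj (unitD A) ≅ unitD B)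
    (hN : ∀ (N : Type u) [AddCommGroup N] [Module B N],
      letI := Module.compHom N φ; ∀ l : Dual.HD A R 0 →ₗ[A] N, l (evUnit A R x) = 0 → l = 0)
    (z : unitD B ⟶ G.obj R) : ∃ r : B, z = r • (eu.inv ≫ G.map x) := by
  let S := eu.inv ≫ G.map x
  let M := Dual.HD B (G.obj R) 0
  let P : Submodule B M := Submodule.span B {evUnit B (G.obj R) S}
  let N := (M : Type u) ⧸ P
  let c := (DerivedCategory.singleFunctorCompHomologyFunctorIso (ModuleCat.{u} B) 0).app (ModuleCat.of B N)
  obtain ⟨ψ, hψ⟩ := (homH_bijective (G.obj R) (Dual.inD B N)).2 (ModuleCat.ofHom P.mkQ ≫ c.inv)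
  have hS : G.map x ≫ ψ = 0 := by
    rw [← cancel_epi eu.inv, comp_zero, ← Category.assoc]
    refine (evUnit B _).injective ?_
    rw [map_zero, evUnit_comp]
    refine (LinearMap.congr_fun (ModuleCat.hom_ext_iff.1 hψ) _).trans ?_
    show c.inv.hom (P.mkQ (evUnit B (G.obj R) S)) = 0
    rw [Submodule.mkQ_apply, (Submodule.Quotient.mk_eq_zero P).2 (Submodule.mem_span_singleton_self _), map_zero]
  have h0 := hom_eq_zero φ adjG x N (hN N) ψ hS
  have hz : evUnit B (G.obj R) z ∈ P := by
    refine (Submodule.Quotient.mk_eq_zero P).1 (c.toLinearEquiv.symm.injective ?_)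
    rw [map_zero]
    refine (LinearMap.congr_fun (ModuleCat.hom_ext_iff.1 hψ.symm) _).trans ?_
    show ((DerivedCategory.homologyFunctor (ModuleCat.{u} B) 0).map ψ).hom (evUnit B (G.obj R) z) = 0
    rw [h0, Functor.map_zero]
    rfl
  obtain ⟨r, hr⟩ := Submodule.mem_span_singleton.1 hz
  exact ⟨r, (evUnit B (G.obj R)).injective (hr.symm.trans (map_smul _ _ _).symm)⟩

omit [R.IsLE 0] in
/-- over a finite module the test modules can be taken to be residue fields -/
theorem hom_eq_zero_of_fields [Module.Finite A (Dual.HD A R 0)]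
    (hfield : ∀ (m : Ideal B) [m.IsMaximal], letI := Module.compHom (B ⧸ m) φ
      ∀ l : Dual.HD A R 0 →ₗ[A] B ⧸ m, l (evUnit A R x) = 0 → l = 0)
    (N : Type u) [AddCommGroup N] [Module B N] :
    letI := Module.compHom N φ; ∀ l : Dual.HD A R 0 →ₗ[A] N, l (evUnit A R x) = 0 → l = 0 := by
  letI := φ.toAlgebra
  letI := Module.compHom N φ
  haveI : IsScalarTower A B N := IsScalarTower.of_algebraMap_smul fun _ _ => rfl
  intro l hl
  let M := Dual.HD A R 0
  let P : Submodule B (B ⊗[A] M) := Submodule.span B {(1 : B) ⊗ₜ[A] evUnit A R x}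
  have hP : P = ⊤ := by
    by_contra hne
    obtain ⟨Q, hQ, hle⟩ := (eq_top_or_exists_le_coatom P).resolve_left hne
    haveI : IsSimpleModule B ((B ⊗[A] M) ⧸ Q) := isSimpleModule_iff_isCoatom.2 hQ
    obtain ⟨m, hm, ⟨e⟩⟩ := isSimpleModule_iff_quot_maximal.1 ‹IsSimpleModule B ((B ⊗[A] M) ⧸ Q)›
    haveI := hm
    letI := Module.compHom (B ⧸ m) φ
    haveI : IsScalarTower A B (B ⧸ m) := IsScalarTower.of_algebraMap_smul fun _ _ => rfl
    have h0 := hfield m (((e.toLinearMap.comp Q.mkQ).restrictScalars A).comp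
      (TensorProduct.mk A B M 1)) (by
        show e (Q.mkQ _) = 0
        rw [Submodule.mkQ_apply, TensorProduct.mk_apply, (Submodule.Quotient.mk_eq_zero Q).2 (hle (Submodule.mem_span_singleton_self _)), map_zero])
    apply hQ.1
    rw [eq_top_iff]
    intro t _
    induction t using TensorProduct.induction_on with
    | zero => exact Q.zero_mem
    | add a b ha hb => exact Q.add_mem (ha trivial) (hb trivial)
    | tmul b y =>
      have hy : (1 : B) ⊗ₜ[A] y ∈ Q :=
        (Submodule.Quotient.mk_eq_zero Q).1 (e.injective ((LinearMap.congr_fun h0 y).trans (map_zero e).symm))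
      have := Q.smul_mem b hy
      rwa [TensorProduct.smul_tmul', smul_eq_mul, mul_one] at this
  refine LinearMap.ext fun y => ?_
  let L : B ⊗[A] M →ₗ[B] N := LinearMap.liftBaseChange B l
  have hy : (1 : B) ⊗ₜ[A] y ∈ LinearMap.ker L := by
    have hle : P ≤ LinearMap.ker L := Submodule.span_le.2 (Set.singleton_subset_iff.2 ((LinearMap.liftBaseChange_tmul (l := l) ..).trans (by rw [one_smul, hl])))
    exact hle (hP ▸ trivial)
  exact ((one_smul B (l y)).symm.trans (LinearMap.liftBaseChange_tmul (l := l) ..).symm).trans hy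

end Groth.Agent.TraceSurj
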