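import Groth.Agent.TraceSurj.Main
import Groth.Agent.TraceSurj.Rep
import Groth.Agent.TraceSurj.Corep
import Groth.Agent.DualGeneric.InjHom
import Groth.Agent.CohFinite.Proper
import Groth.Agent.W7See.Fibre
import Groth.Agent.CurveRR.Zero
import Groth.Agent.BCA.Main
import Groth.Agent.PerfPush.Fibre
import Groth.Agent.ShriekAffine.RpushDual

/-!
# The trace of a proper flat Cohen-Macaulay scheme with geometrically connected and reduced fibres
-/

set_option autoImplicit false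
set_option backward.isDefEq.respectTransparency false
set_option backward.isDefEq.respectTransparency.types false
set_option linter.style.haveILetI false
set_option linter.unusedSectionVars false
set_option synthInstance.maxHeartbeats 100000
set_option maxHeartbeats 800000

universe u

open CategoryTheory Limits AlgebraicGeometry

attribute [local instance] HasDerivedCategory.standard

noncomputable section

namespace Groth.Agent.TraceSurj

open Groth.Agent.DCohShriek (evUnit evUnit_comp unitD tildeQ homH_bijective isQCohD_inD rpushQTildeIso)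
open Groth.Agent.TraceSurj.AnyBase (gammaD gammaAdj shiftQ unitX)

/-- global functions of a proper geometrically connected and reduced scheme over a field -/
theorem finrank_h0 (k : Type u) [Field k] {X : Scheme.{u}} [X.Over (Spec (CommRingCat.of k))]
    [IsProper (X ↘ Spec (CommRingCat.of k))] [GeometricallyConnected (X ↘ Spec (CommRingCat.of k))]
    [GeometricallyReduced (X ↘ Spec (CommRingCat.of k))] :
    Module.finrank k (Coh.HH X (Coh.structureModule X) 0) = 1 := by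
  have hb := W7See.bijective_global_field (X ↘ Spec (CommRingCat.of k))
  letI := CurveRR.secMod k (Coh.structureModule X) ⊤
  show CurveRR.h k (Coh.structureModule X) 0 = 1
  rw [← CurveRR.finrank_sec (k := k)]
  let e : k →ₗ[k] Γ(Coh.structureModule X, ⊤) :=
    { toFun := fun a => (show Γ(X, ⊤) from Coh.toGlobal (X ↘ Spec (CommRingCat.of k)) a)
      map_add' := map_add _
      map_smul' := fun a b => by
        show (show Γ(X, ⊤) from Coh.toGlobal (X ↘ Spec (CommRingCat.of k)) (a * b)) = _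
        rw [map_mul]
        exact (congrArg (fun y : Γ(X, ⊤) => y * (show Γ(X, ⊤) from Coh.toGlobal (X ↘ Spec (CommRingCat.of k)) b))
          (Groth.Agent.QC.resO_self le_rfl _)).symm }
  rw [← (LinearEquiv.ofBijective e hb).finrank_eq, Module.finrank_self]

/-- **over a field, sections of `Rf_*a(O)` are proportional** -/
theorem exists_smul_of_field (k : Type u) [Field k] {X : Scheme.{u}} [X.Over (Spec (CommRingCat.of k))]
    [IsProper (X ↘ Spec (CommRingCat.of k))] [GeometricallyConnected (X ↘ Spec (CommRingCat.of k))]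
    [GeometricallyReduced (X ↘ Spec (CommRingCat.of k))] [DCoh.HasRpush (X ↘ Spec (CommRingCat.of k))]
    {hf : DCoh.RpushPreservesQCoh (X ↘ Spec (CommRingCat.of k))}
    {a : DCoh.DQCoh (Spec (CommRingCat.of k)) ⥤ DCoh.DQCoh X}
    (adj : DCoh.RpushQ (X ↘ Spec (CommRingCat.of k)) hf ⊣ a)
    (S : unitD k ⟶ (gammaD hf).obj (a.obj ((tildeQ k).obj (unitD k)))) (hS : S ≠ 0)
    (z : unitD k ⟶ (gammaD hf).obj (a.obj ((tildeQ k).obj (unitD k)))) : ∃ c : k, z = c • S := by
  obtain ⟨σ, hσ⟩ := AnyBase.exists_unit_map (hf := hf)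
  obtain ⟨β, -⟩ := AnyBase.exists_hh_gamma hf 0
  let O := Coh.structureModule X
  have e0 : shiftQ O (QC.isQCoh_unit X) 0 ≅ unitX X :=
    ObjectProperty.isoMk _ ((shiftFunctorZero (DCoh.D X) ℤ).app _)
  let K := (gammaD hf).obj (unitX X)
  let ev : (unitD k ⟶ K) ≃ₗ[k] Dual.HD k K 0 := evUnit k K
  have hfr : Module.finrank k (Dual.HD k K 0) = 1 := by
    rw [← finrank_h0 k (X := X)]
    exact ((β O (QC.isQCoh_unit X)).trans ((Linear.homCongr k (Iso.refl _) ((gammaD hf).mapIso e0)).trans ev)).finrank_eq.symm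
  obtain ⟨m₀, hm₀, hm₀'⟩ := finrank_eq_one_iff'.1 hfr
  -- maps out of `K` into the unit are determined by their value on `σ`
  let Φ : (unitD k ⟶ (gammaD hf).obj (a.obj ((tildeQ k).obj (unitD k)))) →ₗ[k] (unitD k ⟶ unitD k) :=
    Linear.rightComp k _ ((gammaAdj adj).counit.app (unitD k))
  have hσm : ev σ ≠ 0 := fun h => by
    obtain ⟨w, hw⟩ := (hσ (unitX X)).2 (ev.symm m₀)
    have h' : σ = 0 := ev.injective (h.trans (map_zero ev).symm)
    have hw' : σ ≫ (gammaD hf).map w = ev.symm m₀ := hw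
    rw [h', zero_comp] at hw'
    exact hm₀ (ev.symm.injective (hw'.symm.trans (map_zero ev.symm).symm))
  have hdet : ∀ v : K ⟶ unitD k, σ ≫ v = 0 → v = 0 := fun v hv => by
    haveI : Injective (ModuleCat.of k k) :=
      Module.injective_object_of_injective_module k k (inj := Module.injective_of_isSemisimpleRing k k)
    refine (DualGeneric.homH_injective_bijective (ModuleCat.of k k) K).1 ?_
    refine ModuleCat.hom_ext (LinearMap.ext fun y => ?_)
    obtain ⟨c, hc⟩ := hm₀' y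
    obtain ⟨d, hd⟩ := hm₀' (ev σ)
    have hd0 : d ≠ 0 := fun h => hσm (by rw [← hd, h, zero_smul])
    have hy : y = (c * d⁻¹) • ev σ := by rw [← hd, smul_smul, mul_assoc, inv_mul_cancel₀ hd0, mul_one, hc]
    show ((DerivedCategory.homologyFunctor (ModuleCat.{u} k) 0).map v).hom y =
      ((DerivedCategory.homologyFunctor (ModuleCat.{u} k) 0).map (0 : K ⟶ unitD k)).hom y
    rw [Functor.map_zero, hy, map_smul]
    refine (congrArg _ ((evUnit_comp (A := k) σ v).symm.trans ((congrArg _ hv).trans (map_zero _)))).trans ?_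
    exact smul_zero _
  have hΦ : Function.Injective Φ := (injective_iff_map_eq_zero _).2 fun z hz => by
    obtain ⟨w, hw⟩ := (hσ _).2 z
    have hw' : σ ≫ (gammaD hf).map w = z := hw
    have h1 : (gammaD hf).map w ≫ (gammaAdj adj).counit.app (unitD k) = 0 := hdet _ (by
      rw [← Category.assoc, hw']
      exact hz)
    haveI : (gammaD (X := X) hf).IsLeftAdjoint := (gammaAdj adj).isLeftAdjoint
    have h2 : w = 0 := ((gammaAdj adj).homEquiv _ _).symm.injective (by
      rw [Adjunction.homEquiv_counit, h1, Adjunction.homEquiv_counit]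
      exact ((congrArg (· ≫ _) (Functor.map_zero _ _ _)).trans zero_comp).symm)
    rw [← hw', h2, Functor.map_zero, comp_zero]
  let s₀ : Dual.HD k (unitD k) 0 ≃ₗ[k] k :=
    ((DerivedCategory.singleFunctorCompHomologyFunctorIso (ModuleCat.{u} k) 0).app (ModuleCat.of k k)).toLinearEquiv
  let ψ : (unitD k ⟶ unitD k) ≃ₗ[k] k := (evUnit k (unitD k)).trans s₀
  have hS' : ψ (Φ S) ≠ 0 := fun h => hS (hΦ ((ψ.injective (h.trans (map_zero ψ).symm)).trans (map_zero Φ).symm))
  refine ⟨ψ (Φ z) * (ψ (Φ S))⁻¹, hΦ (ψ.injective ?_)⟩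
  rw [map_smul, map_smul, smul_eq_mul, mul_assoc, inv_mul_cancel₀ hS', mul_one]

section BC

variable {A B : Type u} [CommRing A] [CommRing B] (φ : A →+* B) {X X' : Scheme.{u}}
  [X.Over (Spec (CommRingCat.of A))] [X'.Over (Spec (CommRingCat.of B))]
  [IsProper (X ↘ Spec (CommRingCat.of A))] [Flat (X ↘ Spec (CommRingCat.of A))]
  [LocallyOfFinitePresentation (X ↘ Spec (CommRingCat.of A))]
  [DCoh.HasRpush (X ↘ Spec (CommRingCat.of A))] [DCoh.HasRpush (X' ↘ Spec (CommRingCat.of B))]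
  [DCoh.HasRpush (Spec.map (CommRingCat.ofHom φ))] [DCoh.HasLpull (Spec.map (CommRingCat.ofHom φ))]
  {hf : DCoh.RpushPreservesQCoh (X ↘ Spec (CommRingCat.of A))}
  {hf' : DCoh.RpushPreservesQCoh (X' ↘ Spec (CommRingCat.of B))}
  {a : DCoh.DQCoh (Spec (CommRingCat.of A)) ⥤ DCoh.DQCoh X} (adj : DCoh.RpushQ (X ↘ Spec (CommRingCat.of A)) hf ⊣ a)
  {a' : DCoh.DQCoh (Spec (CommRingCat.of B)) ⥤ DCoh.DQCoh X'}
  (adj' : DCoh.RpushQ (X' ↘ Spec (CommRingCat.of B)) hf' ⊣ a')
  {hg : DCoh.RpushPreservesQCoh (Spec.map (CommRingCat.ofHom φ))}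
  {hL : Dual3.LpullPreservesQCoh (Spec.map (CommRingCat.ofHom φ))}
  (adjg : Dual3.LpullQ (Spec.map (CommRingCat.ofHom φ)) hL ⊣ DCoh.RpushQ (Spec.map (CommRingCat.ofHom φ)) hg)
  {g' : X' ⟶ X}
  (hsq : IsPullback g' (X' ↘ Spec (CommRingCat.of B)) (X ↘ Spec (CommRingCat.of A)) (Spec.map (CommRingCat.ofHom φ)))

include adj adj' adjg hsq in
/-- base change of `Rf_* a(O)`, and the amplitude of `a'(O)` -/
theorem exists_bc_iso (n : ℕ) [(a.obj ((tildeQ A).obj (unitD A))).obj.IsLE (-(n : ℤ))] :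
    Nonempty ((gammaD hf').obj (a'.obj ((tildeQ B).obj (unitD B))) ≅
      (ext₀ φ hL).obj ((gammaD hf).obj (a.obj ((tildeQ A).obj (unitD A))))) ∧
    (a'.obj ((tildeQ B).obj (unitD B))).obj.IsLE (-(n : ℤ)) := by
  let f := X ↘ Spec (CommRingCat.of A)
  let f' := X' ↘ Spec (CommRingCat.of B)
  let g := Spec.map (CommRingCat.ofHom φ)
  haveI : IsProper f' := MorphismProperty.of_isPullback (P := @IsProper) hsq ‹IsProper (X ↘ _)›
  haveI : Flat f' := MorphismProperty.of_isPullback (P := @Flat) hsq ‹Flat (X ↘ _)›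
  haveI : LocallyOfFinitePresentation f' :=
    MorphismProperty.of_isPullback (P := @LocallyOfFinitePresentation) hsq ‹LocallyOfFinitePresentation (X ↘ _)›
  haveI : QuasiCompact f := inferInstanceAs (QuasiCompact (X ↘ _))
  haveI : CompactSpace X := QuasiCompact.compactSpace_of_compactSpace f
  haveI : CompactSpace X' := QuasiCompact.compactSpace_of_compactSpace f'
  haveI : QuasiSeparatedSpace X := quasiSeparatedSpace_of_quasiSeparated f
  haveI : QuasiSeparatedSpace X' := quasiSeparatedSpace_of_quasiSeparated f'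
  haveI : QuasiCompact g' := quasiCompact_of_compactSpace g'
  haveI := DerPush.hasRpush_sch g'
  haveI := KFlat.hasLpull g'
  have hg' : DCoh.RpushPreservesQCoh g' := fun E hE => DQPush.isQCohD_rpush g' hE
  have hLg' : Dual3.LpullPreservesQCoh g' := fun K hK => DQCoh.isQCohD_Lpull g' K hK
  obtain ⟨adj₀'⟩ := DerPush.nonempty_lpull_adj_rpush g'
  let adjg' := Dual3XI.adjQ hg' hLg' adj₀'
  obtain ⟨e, hξ, hp, hm⟩ := BCA.exists_bc hsq (BCA.locHyp_of_flat hsq)
    (fun V hV W hW hWV gY HW => by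
      haveI : IsAffine (V : Scheme.{u}) := hV
      haveI : CompactSpace (f ⁻¹ᵁ V) := isCompact_iff_compactSpace.1 (f.isCompact_preimage hV.isCompact)
      haveI : QuasiSeparatedSpace (f ⁻¹ᵁ V) := quasiSeparatedSpace_of_quasiSeparated (f ⁻¹ᵁ V).ι
      exact BCA.locHyp_of_flat HW)
    (fun P hP => ShriekAffine.isPerfect_rpush' f hP)
    (fun P hP => ShriekAffine.isPerfect_rpush' f' hP) adj adj' adjg adjg'
  let OA := (tildeQ A).obj (unitD A)
  haveI := hm OA
  haveI := hp (a.obj OA)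
  obtain ⟨u₀⟩ := PerfPush.nonempty_lpull_unit g
  let eL : (Dual3.LpullQ g hL).obj OA ≅ (tildeQ B).obj (unitD B) := ObjectProperty.isoMk _
    ((DCoh.Lpull g).mapIso (tildeUnitIso' A) ≪≫ u₀ ≪≫ (tildeUnitIso' B).symm)
  let e1 : a'.obj ((tildeQ B).obj (unitD B)) ≅ (Dual3.LpullQ g' hLg').obj (a.obj OA) :=
    a'.mapIso eL.symm ≪≫ (asIso (Dual3.bcMap adj adj' e adjg adjg' OA (hξ _))).symm
  constructor
  · exact ⟨(gammaD hf').mapIso e1 ≪≫
      (tildeQ B).asEquivalence.inverse.mapIso ((asIso (Dual3.bcPush e adjg adjg' (a.obj OA))).symm ≪≫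
        (Dual3.LpullQ g hL).mapIso ((tildeQ A).asEquivalence.counitIso.app _).symm)⟩
  · exact @Triangulated.TStructure.isLE_of_iso _ _ _ _ _ _ _ DerivedCategory.TStructure.t _ _
      ((ObjectProperty.ι _).mapIso e1).symm (-(n : ℤ)) (PerfPush.isLE_lpull g' (a.obj OA).obj (-(n : ℤ)))

end BC

/-- the trace is bijective -/
theorem bijective_trace {A : Type u} [CommRing A] {X : Scheme.{u}} [X.Over (Spec (CommRingCat.of A))]
    [IsProper (X ↘ Spec (CommRingCat.of A))] [Flat (X ↘ Spec (CommRingCat.of A))]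
    [LocallyOfFinitePresentation (X ↘ Spec (CommRingCat.of A))] [Surjective (X ↘ Spec (CommRingCat.of A))]
    [GeometricallyReduced (X ↘ Spec (CommRingCat.of A))] [GeometricallyConnected (X ↘ Spec (CommRingCat.of A))]
    (n : ℕ) (hgood : ∀ x : X, Good (X ↘ Spec (CommRingCat.of A)) n x)
    (ω : X.Modules) (hω : Coh.IsQCoh ω) (γ : Coh.HH X ω n →ₗ[A] A)
    (huniq : ∀ φ ψ : ω ⟶ ω, (∀ x : Coh.HH X ω n, γ (Sheaf.H.map ((SheafOfModules.toSheaf X.ringCatSheaf).map φ) n x) =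
      γ (Sheaf.H.map ((SheafOfModules.toSheaf X.ringCatSheaf).map ψ) n x)) → φ = ψ)
    (hex : ∀ F : X.Modules, Coh.IsQCoh F → ∀ g : Coh.HH X F n →ₗ[A] A, ∃ φ : F ⟶ ω, ∀ x,
      γ (Sheaf.H.map ((SheafOfModules.toSheaf X.ringCatSheaf).map φ) n x) = g x)
    (hsurj : Function.Surjective γ) : Function.Bijective γ := by
  refine ⟨?_, hsurj⟩
  suffices hcyc : ∃ g₀ : Coh.HH X ω n, ∀ y, ∃ r : A, y = r • g₀ by
    obtain ⟨g₀, hg₀⟩ := hcyc
    obtain ⟨y₁, hy₁⟩ := hsurj 1
    obtain ⟨r₁, rfl⟩ := hg₀ y₁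
    refine (injective_iff_map_eq_zero γ).2 fun y hy => ?_
    obtain ⟨r, rfl⟩ := hg₀ y
    rw [map_smul, smul_eq_mul] at hy hy₁
    rw [show r = 0 by
      calc r = r * (r₁ * γ g₀) := by rw [hy₁, mul_one]
        _ = r₁ * (r * γ g₀) := by ring
        _ = 0 := by rw [hy, mul_zero], zero_smul]
  let fX := X ↘ Spec (CommRingCat.of A)
  obtain ⟨A₁, X₁, f₁, g₁, hN, hp₁, hfl₁, hlfp₁, hsurj₁, hsq₁, hgood₁⟩ := exists_good_model n hgood
  haveI := hN; haveI := hp₁; haveI := hfl₁; haveI := hlfp₁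
  letI : X₁.Over (Spec (CommRingCat.of A₁)) := ⟨f₁⟩
  haveI : IsProper (X₁ ↘ Spec (CommRingCat.of A₁)) := hp₁
  haveI : Flat (X₁ ↘ Spec (CommRingCat.of A₁)) := hfl₁
  haveI : LocallyOfFinitePresentation (X₁ ↘ Spec (CommRingCat.of A₁)) := hlfp₁
  haveI : Surjective (X₁ ↘ Spec (CommRingCat.of A₁)) := hsurj₁
  haveI := DCohShriek.isNoetherian_of_proper f₁
  haveI : DCoh.HasRpush (X₁ ↘ Spec (CommRingCat.of A₁)) := DerPush.hasRpush_sch f₁
  haveI : CompactSpace X := QuasiCompact.compactSpace_of_compactSpace fX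
  haveI : QuasiSeparatedSpace X := quasiSeparatedSpace_of_quasiSeparated fX
  haveI : DCoh.HasRpush (X ↘ Spec (CommRingCat.of A)) := DerPush.hasRpush_sch fX
  have hf₁ : DCoh.RpushPreservesQCoh (X₁ ↘ Spec (CommRingCat.of A₁)) := fun E hE => DQPush.isQCohD_rpush f₁ hE
  have hf : DCoh.RpushPreservesQCoh (X ↘ Spec (CommRingCat.of A)) := fun E hE => DQPush.isQCohD_rpush fX hE
  haveI : (DCoh.RpushQ (X₁ ↘ Spec (CommRingCat.of A₁)) hf₁).IsLeftAdjoint := DCohShriek.isLeftAdjoint_rpushQ f₁ hf₁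
  haveI : (DCoh.RpushQ (X ↘ Spec (CommRingCat.of A)) hf).IsLeftAdjoint := DCohShriek.isLeftAdjoint_rpushQ fX hf
  let adj₁ : DCoh.RpushQ (X₁ ↘ Spec (CommRingCat.of A₁)) hf₁ ⊣ _ := Adjunction.ofIsLeftAdjoint _
  let adj : DCoh.RpushQ (X ↘ Spec (CommRingCat.of A)) hf ⊣ _ := Adjunction.ofIsLeftAdjoint _
  have hvan : ∀ {B : Type u} [CommRing B] {Y : Scheme.{u}} [Y.Over (Spec (CommRingCat.of B))]
      [IsProper (Y ↘ Spec (CommRingCat.of B))], (∀ y : Y, Good (Y ↘ Spec (CommRingCat.of B)) n y) →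
      ∀ F : Y.Modules, Coh.IsQCoh F → ∀ p : ℕ, n < p → Subsingleton (Coh.HH Y F p) := fun {B} _ {Y} _ _ hg F hF p hp =>
    FibVan.subsingleton_hh_affine (Y ↘ Spec (CommRingCat.of B)) n
      (fun y => TopDegRep.topologicalKrullDim_le_of_components _ n fun Z hZ =>
        LocalDimBC.hasRelDim_of_fibreDimAt (Y ↘ Spec (CommRingCat.of B)) n (fun x => (hg x).2) y Z hZ) F hF p hp
  obtain ⟨ω₁, hω₁, -, ψ₁, x₁, hx₁⟩ := exists_trace_data (X := X₁) (A := A₁) (hf := hf₁) adj₁
    (fun x => (hgood₁ x).1) n (fun x => (hgood₁ x).2) (hvan hgood₁)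
  let O₁ := (Functor.rightAdjoint (DCoh.RpushQ (X₁ ↘ Spec (CommRingCat.of A₁)) hf₁)).obj ((tildeQ A₁).obj (unitD A₁))
  haveI : O₁.obj.IsLE (-(n : ℤ)) := by
    haveI : ((DCoh.inD X₁ ω₁)⟦(n : ℤ)⟧).IsLE (-(n : ℤ)) :=
      DerivedCategory.TStructure.t.isLE_shift (DCoh.inD X₁ ω₁) 0 (n : ℤ) (-(n : ℤ)) (by omega)
    exact @Triangulated.TStructure.isLE_of_iso _ _ _ _ _ _ _ DerivedCategory.TStructure.t _ _
      ((ObjectProperty.ι _).mapIso ψ₁) (-(n : ℤ)) (by assumption)
  let R₁ := (gammaD hf₁).obj O₁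
  haveI : R₁.IsLE 0 := by
    haveI := AnyBase.isLE_gamma (hf := hf₁) n (hvan hgood₁) ω₁ hω₁.1
    exact DerivedCategory.TStructure.t.isLE_of_iso ((gammaD hf₁).mapIso ψ₁) 0
  haveI : Module.Finite A₁ (Dual.HD A₁ R₁ 0) := by
    obtain ⟨β₁, -⟩ := AnyBase.exists_hh_gamma hf₁ n
    haveI := CohFinite.finite_proper (A := A₁) X₁ ω₁ hω₁ n
    exact Module.Finite.equiv ((β₁ ω₁ hω₁.1).trans
      ((Linear.homCongr A₁ (Iso.refl _) ((gammaD hf₁).mapIso ψ₁)).trans (evUnit A₁ R₁)))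
  -- fibres
  have hfield : ∀ (m : Ideal A) [m.IsMaximal], letI := Module.compHom (A ⧸ m) (algebraMap A₁ A)
      ∀ l : Dual.HD A₁ R₁ 0 →ₗ[A₁] A ⧸ m, l (evUnit A₁ R₁ x₁) = 0 → l = 0 := by
    intro m hm
    letI := Module.compHom (A ⧸ m) (algebraMap A₁ A)
    letI : Field (A ⧸ m) := Ideal.Quotient.field m
    let k := A ⧸ m
    let χ : A₁ →+* k := (Ideal.Quotient.mk m).comp (algebraMap A₁ A)
    let q := Spec.map (CommRingCat.ofHom (Ideal.Quotient.mk m))
    let g := Spec.map (CommRingCat.ofHom χ)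
    let Xm := pullback fX q
    letI : Xm.Over (Spec (CommRingCat.of k)) := ⟨pullback.snd fX q⟩
    have hsq : IsPullback (pullback.fst fX q ≫ g₁) (Xm ↘ Spec (CommRingCat.of k)) f₁ g := by
      have : g = q ≫ Spec.map (CommRingCat.ofHom (algebraMap A₁ A)) := by
        rw [← Spec.map_comp, ← CommRingCat.ofHom_comp]
      rw [this]
      exact (IsPullback.of_hasPullback fX q).paste_horiz hsq₁
    haveI : IsProper (Xm ↘ Spec (CommRingCat.of k)) := MorphismProperty.pullback_snd _ _ ‹IsProper fX›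
    haveI : GeometricallyConnected (Xm ↘ Spec (CommRingCat.of k)) :=
      inferInstanceAs (GeometricallyConnected (pullback.snd fX q))
    haveI : GeometricallyReduced (Xm ↘ Spec (CommRingCat.of k)) :=
      inferInstanceAs (GeometricallyReduced (pullback.snd fX q))
    haveI : CompactSpace Xm := QuasiCompact.compactSpace_of_compactSpace (Xm ↘ Spec (CommRingCat.of k))
    haveI : DCoh.HasRpush (Xm ↘ Spec (CommRingCat.of k)) := DerPush.hasRpush_sch _
    haveI := DerPush.hasRpush_sch g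
    haveI := KFlat.hasLpull g
    have hfm : DCoh.RpushPreservesQCoh (Xm ↘ Spec (CommRingCat.of k)) := fun E hE => DQPush.isQCohD_rpush _ hE
    haveI : (DCoh.RpushQ (Xm ↘ Spec (CommRingCat.of k)) hfm).IsLeftAdjoint := DCohShriek.isLeftAdjoint_rpushQ _ hfm
    let adjm : DCoh.RpushQ (Xm ↘ Spec (CommRingCat.of k)) hfm ⊣ _ := Adjunction.ofIsLeftAdjoint _
    have hg : DCoh.RpushPreservesQCoh g := fun E hE => DQPush.isQCohD_rpush g hE
    have hL : Dual3.LpullPreservesQCoh g := fun K hK => DQCoh.isQCohD_Lpull g K hK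
    obtain ⟨adj₀⟩ := DerPush.nonempty_lpull_adj_rpush g
    let adjg := Dual3XI.adjQ hg hL adj₀
    obtain ⟨⟨E⟩, -⟩ := exists_bc_iso χ adj₁ adjm adjg hsq n
    let adjG := extAdj χ adjg
    obtain ⟨eu⟩ := nonempty_ext_unit χ (hL := hL)
    intro l hl
    let N := k
    let c := (DerivedCategory.singleFunctorCompHomologyFunctorIso (ModuleCat.{u} A₁) 0).app (ModuleCat.of A₁ N)
    obtain ⟨ψ₂, hψ₂⟩ := (homH_bijective R₁ (Dual.inD A₁ N)).2 (ModuleCat.ofHom l ≫ c.inv)
    let e : (DRing.restrictD χ).obj (Dual.inD k N) ≅ Dual.inD A₁ N :=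
      ((ModuleCat.restrictScalars χ).mapDerivedCategorySingleFunctor 0).app (ModuleCat.of k N)
    let ψ' := (adjG.homEquiv R₁ (Dual.inD k N)).symm (ψ₂ ≫ e.inv)
    have hx₂ : x₁ ≫ ψ₂ = 0 := by
      refine (evUnit A₁ _).injective ?_
      rw [map_zero, evUnit_comp]
      refine (LinearMap.congr_fun (ModuleCat.hom_ext_iff.1 hψ₂) _).trans ?_
      show c.inv.hom (l (evUnit A₁ R₁ x₁)) = 0
      rw [hl, map_zero]
    haveI : (ext₀ χ hL).IsLeftAdjoint := adjG.isLeftAdjoint
    have hx' : (ext₀ χ hL).map x₁ ≫ ψ' = 0 := by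
      show (ext₀ χ hL).map x₁ ≫ (adjG.homEquiv R₁ (Dual.inD k N)).symm (ψ₂ ≫ e.inv) = 0
      rw [← adjG.homEquiv_naturality_left_symm, ← Category.assoc, hx₂, zero_comp, Adjunction.homEquiv_counit,
        Functor.map_zero, zero_comp]
    let S := eu.inv ≫ (ext₀ χ hL).map x₁
    have hS : S ≫ E.inv ≠ 0 := fun h => by
      have h1 : (ext₀ χ hL).map x₁ = 0 := by
        rw [← cancel_epi eu.inv, comp_zero, ← cancel_mono E.inv, zero_comp]
        exact h
      have h2 := congrArg (fun t => t ≫ (ext₀ χ hL).map ((gammaAdj adj₁).counit.app (unitD A₁))) h1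
      simp only [zero_comp] at h2
      rw [← Functor.map_comp] at h2
      have h3 : (𝟙 (unitD k) : unitD k ⟶ unitD k) = 0 := by
        rw [← eu.inv_hom_id, ← Category.id_comp eu.hom, ← CategoryTheory.Functor.map_id,
          show (𝟙 (unitD A₁)) = x₁ ≫ (gammaAdj adj₁).counit.app (unitD A₁) from hx₁.symm]
        rw [h2, zero_comp, comp_zero]
      have h4 := congrArg (fun t => ((DerivedCategory.singleFunctorCompHomologyFunctorIso (ModuleCat.{u} k) 0).app
        (ModuleCat.of k k)).inv ≫ (DerivedCategory.homologyFunctor (ModuleCat.{u} k) 0).map t ≫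
          ((DerivedCategory.singleFunctorCompHomologyFunctorIso (ModuleCat.{u} k) 0).app (ModuleCat.of k k)).hom) h3
      simp only [CategoryTheory.Functor.map_id, Functor.map_zero, zero_comp, comp_zero] at h4
      exact one_ne_zero (α := k) (LinearMap.congr_fun (ModuleCat.hom_ext_iff.1 ((Iso.inv_hom_id _).symm.trans ((congrArg (((DerivedCategory.singleFunctorCompHomologyFunctorIso (ModuleCat.{u} k) 0).app (ModuleCat.of k k)).inv ≫ ·) (Category.id_comp _)).symm.trans h4))) (1 : k))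
    have hψ'0 : ψ' = 0 := by
      haveI : ((ext₀ χ hL).obj R₁).IsLE 0 := by
        obtain ⟨-, hle⟩ := exists_bc_iso χ adj₁ adjm adjg hsq n
        haveI := hle
        have hgm : ∀ x : Xm, Good (Xm ↘ Spec (CommRingCat.of k)) n x := fun x =>
          (good_baseChange hsq n x).2 (hgood₁ _)
        let K := (Functor.rightAdjoint (DCoh.RpushQ (Xm ↘ Spec (CommRingCat.of k)) hfm)).obj ((tildeQ k).obj (unitD k))
        haveI : K.obj.IsGE (-(n : ℤ)) := (DerivedCategory.isGE_iff _ _).2 fun i hi =>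
          AnyBase.isZero_HD_adjoint adjm n (hvan hgm) (unitD k) i hi
        obtain ⟨M, ⟨eM⟩⟩ := DerivedCategory.exists_iso_singleFunctor_obj_of_isGE_of_isLE K.obj (-(n : ℤ))
        have hM : Coh.IsQCoh M := QC.isQCoh_of_iso
          ((DerivedCategory.homologyFunctor Xm.Modules (-(n : ℤ))).mapIso eM ≪≫
            (DerivedCategory.singleFunctorCompHomologyFunctorIso Xm.Modules (-(n : ℤ))).app M) (K.property _)
        let ψm : shiftQ M hM n ≅ K := ObjectProperty.isoMk _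
          ((SingleFunctors.shiftIso (DerivedCategory.singleFunctors Xm.Modules) (n : ℤ) (-(n : ℤ)) 0 (by omega)).app M ≪≫
            eM.symm)
        haveI := AnyBase.isLE_gamma (hf := hfm) n (hvan hgm) M hM
        exact DerivedCategory.TStructure.t.isLE_of_iso ((gammaD hfm).mapIso ψm ≪≫ E) 0
      refine (homH_bijective _ (Dual.inD k N)).1 (ModuleCat.hom_ext (LinearMap.ext fun y => ?_))
      obtain ⟨z, rfl⟩ := (evUnit k _).surjective y
      obtain ⟨r, hr⟩ := exists_smul_of_field k adjm (S ≫ E.inv) hS (z ≫ E.inv)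
      have hz : z = r • S := (cancel_mono E.inv).1 (hr.trans (Linear.smul_comp _ _ _ r S E.inv).symm)
      show ((DerivedCategory.homologyFunctor (ModuleCat.{u} k) 0).map ψ').hom (evUnit k _ z) =
        ((DerivedCategory.homologyFunctor (ModuleCat.{u} k) 0).map (0 : _ ⟶ Dual.inD k N)).hom (evUnit k _ z)
      rw [← evUnit_comp, ← evUnit_comp, comp_zero, hz, Linear.smul_comp, Category.assoc, hx', comp_zero, smul_zero]
    have h0 : ψ₂ = 0 := by
      have h5 := congrArg (adjG.homEquiv R₁ (Dual.inD k N)) hψ'0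
      haveI : (DRing.restrictD χ).IsRightAdjoint := adjG.isRightAdjoint
      rw [Equiv.apply_symm_apply, Adjunction.homEquiv_unit, Functor.map_zero, comp_zero] at h5
      rwa [← cancel_mono e.inv, zero_comp]
    refine LinearMap.ext fun y => c.toLinearEquiv.symm.injective ?_
    refine (LinearMap.congr_fun (ModuleCat.hom_ext_iff.1 hψ₂.symm) y).trans ?_
    show ((DerivedCategory.homologyFunctor (ModuleCat.{u} A₁) 0).map ψ₂).hom y = c.toLinearEquiv.symm 0
    rw [h0, Functor.map_zero, map_zero]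
    rfl
  -- over `A`
  let φ := algebraMap A₁ A
  haveI := DerPush.hasRpush_sch (Spec.map (CommRingCat.ofHom φ))
  haveI := KFlat.hasLpull (Spec.map (CommRingCat.ofHom φ))
  have hg : DCoh.RpushPreservesQCoh (Spec.map (CommRingCat.ofHom φ)) := fun E hE => DQPush.isQCohD_rpush _ hE
  have hL : Dual3.LpullPreservesQCoh (Spec.map (CommRingCat.ofHom φ)) := fun K hK => DQCoh.isQCohD_Lpull _ K hK
  obtain ⟨adj₀⟩ := DerPush.nonempty_lpull_adj_rpush (Spec.map (CommRingCat.ofHom φ))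
  let adjg := Dual3XI.adjQ hg hL adj₀
  obtain ⟨⟨E⟩, hle⟩ := exists_bc_iso φ adj₁ adj adjg hsq₁ n
  haveI := hle
  let K := (Functor.rightAdjoint (DCoh.RpushQ (X ↘ Spec (CommRingCat.of A)) hf)).obj ((tildeQ A).obj (unitD A))
  haveI : K.obj.IsGE (-(n : ℤ)) := (DerivedCategory.isGE_iff _ _).2 fun i hi =>
    AnyBase.isZero_HD_adjoint adj n (hvan hgood) (unitD A) i hi
  let ω' := DCoh.HD K.obj (-(n : ℤ))
  have hω' : Coh.IsQCoh ω' := K.property _
  obtain ⟨M, ⟨eM⟩⟩ := DerivedCategory.exists_iso_singleFunctor_obj_of_isGE_of_isLE K.obj (-(n : ℤ))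
  let eM' : ω' ≅ M := (DerivedCategory.homologyFunctor X.Modules (-(n : ℤ))).mapIso eM ≪≫
    (DerivedCategory.singleFunctorCompHomologyFunctorIso X.Modules (-(n : ℤ))).app M
  let ψK : shiftQ ω' hω' n ≅ K := ObjectProperty.isoMk _
    ((SingleFunctors.shiftIso (DerivedCategory.singleFunctors X.Modules) (n : ℤ) (-(n : ℤ)) 0 (by omega)).app ω' ≪≫
      (DerivedCategory.singleFunctor X.Modules (-(n : ℤ))).mapIso eM' ≪≫ eM.symm)
  haveI := AnyBase.isLE_gamma (hf := hf) n (hvan hgood) ω' hω'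
  haveI : ((ext₀ φ hL).obj R₁).IsLE 0 :=
    DerivedCategory.TStructure.t.isLE_of_iso ((gammaD hf).mapIso ψK ≪≫ E) 0
  obtain ⟨eu⟩ := nonempty_ext_unit φ (hL := hL)
  obtain ⟨β, -⟩ := AnyBase.exists_hh_gamma hf n
  let Θ : Coh.HH X ω' n ≃ₗ[A] (unitD A ⟶ (ext₀ φ hL).obj R₁) :=
    (β ω' hω').trans (Linear.homCongr A (Iso.refl _) ((gammaD hf).mapIso ψK ≪≫ E))
  have hgen : ∀ y, ∃ r : A, y = r • Θ.symm (eu.inv ≫ (ext₀ φ hL).map x₁) := fun y => by
    obtain ⟨r, hr⟩ := exists_smul φ (extAdj φ adjg) x₁ eu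
      (fun N _ _ => hom_eq_zero_of_fields φ x₁ (fun m _ => hfield m) N) (Θ y)
    exact ⟨r, Θ.injective (by rw [map_smul, LinearEquiv.apply_symm_apply, hr])⟩
  obtain ⟨t, ht⟩ := AnyBase.exists_trace adj n (hvan hgood) (unitD A) hω'
  let s₀ : Dual.HD A (unitD A) 0 ≃ₗ[A] A :=
    ((DerivedCategory.singleFunctorCompHomologyFunctorIso (ModuleCat.{u} A) 0).app (ModuleCat.of A A)).toLinearEquiv
  obtain ⟨φ₁, hφ₁⟩ := hex ω' hω' (s₀.toLinearMap.comp t)
  obtain ⟨φ₂, hφ₂, -⟩ := ht ω hω (s₀.symm.toLinearMap.comp γ)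
  have hid : φ₂ ≫ φ₁ = 𝟙 ω := huniq _ _ fun x => by
    have h1 := CohFinite.hhMap_comp A φ₂ φ₁ n x
    refine (congrArg γ h1).trans ((hφ₁ _).trans ?_)
    refine (congrArg s₀ (hφ₂ x).symm).trans ?_
    refine (s₀.apply_symm_apply (γ x)).trans ?_
    exact congrArg γ (CohFinite.hhMap_id A ω n x).symm
  refine ⟨CohFinite.hhMap A φ₁ n (Θ.symm (eu.inv ≫ (ext₀ φ hL).map x₁)), fun y => ?_⟩
  obtain ⟨r, hr⟩ := hgen (CohFinite.hhMap A φ₂ n y)
  refine ⟨r, ?_⟩
  rw [← map_smul, ← hr, ← CohFinite.hhMap_comp, hid]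
  exact (CohFinite.hhMap_id A _ n y).symm

end Groth.Agent.TraceSurj
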