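import Groth.Agent.DCohShriek.DualModule
import Groth.Agent.HTorBC.KunnBC
import Groth.Agent.PerfPush.Unit
import Groth.Agent.FlatLimMod.Basic
import Groth.Agent.DQCoh.RelTor

/-!
# Base change of split maps `Rf_*(ω[n]) → O` and functionals on top cohomology
-/

set_option autoImplicit false
set_option backward.isDefEq.respectTransparency false
set_option backward.isDefEq.respectTransparency.types false
set_option linter.style.haveILetI false
set_option linter.unusedSectionVars false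
set_option synthInstance.maxHeartbeats 100000
set_option maxHeartbeats 800000

universe u

open CategoryTheory Limits AlgebraicGeometry

attribute [local instance] HasDerivedCategory.standard

noncomputable section

namespace Groth.Agent.TraceSurj

open Groth.Agent.DCohShriek

variable {A : Type u} [CommRing A] {X : Scheme.{u}} [X.Over (Spec (CommRingCat.of A))]
  [DCoh.HasRpush (X ↘ Spec (CommRingCat.of A))]

local notation "fX" => X ↘ Spec (CommRingCat.of A)

/-- a split map `Rf_*(F[n]) → O` gives a surjective functional on `H^n(X, F)` -/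
theorem exists_functional_of_split (F : X.Modules) (n : ℕ)
    (p : (DCoh.Rpush (fX)).obj ((DCoh.inD X F)⟦(n : ℤ)⟧) ⟶ (DCoh.tildeD (CommRingCat.of A)).obj (unitD A))
    (s : (DCoh.tildeD (CommRingCat.of A)).obj (unitD A) ⟶ (DCoh.Rpush (fX)).obj ((DCoh.inD X F)⟦(n : ℤ)⟧))
    (hps : s ≫ p = 𝟙 _) : ∃ g : Coh.HH X F n →ₗ[A] A, Function.Surjective g := by
  haveI := KFlat.hasLpull (fX)
  obtain ⟨adj'⟩ := DerPush.nonempty_lpull_adj_rpush (fX)
  obtain ⟨u⟩ := PerfPush.nonempty_lpull_unit (fX)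
  let T := DCoh.tildeD (CommRingCat.of A)
  haveI : (fX).IsOver (Spec (CommRingCat.of A)) := isOver_spec (fX)
  haveI := additive_rpush (fX)
  haveI := linear_rpush (A := A) (fX)
  haveI : T.Linear A := inferInstanceAs ((tilde.functor (CommRingCat.of A)).mapDerivedCategory.Linear A)
  haveI := (DQCoh.tildeD_affine (R := CommRingCat.of A)).1
  haveI := (DQCoh.tildeD_affine (R := CommRingCat.of A)).2.1
  let eO : T.obj (unitD A) ≅ DCoh.inD (Spec (CommRingCat.of A)) (Coh.structureModule _) :=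
    ((tilde.functor (CommRingCat.of A)).mapDerivedCategorySingleFunctor 0).app (ModuleCat.of A A) ≪≫
      (DerivedCategory.singleFunctor _ 0).mapIso (tildeSelf (R := CommRingCat.of A))
  let η₀ : DCoh.inD (Spec (CommRingCat.of A)) (Coh.structureModule _) ⟶
      (DCoh.Rpush (fX)).obj (DCoh.inD X (Coh.structureModule X)) :=
    adj'.unit.app _ ≫ (DCoh.Rpush (fX)).map u.hom
  let G := (DCoh.inD X F)⟦(n : ℤ)⟧
  have h1 : Function.Bijective fun x : DCoh.inD X (Coh.structureModule X) ⟶ G =>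
      η₀ ≫ (DCoh.Rpush (fX)).map x := by
    have : (fun x : DCoh.inD X (Coh.structureModule X) ⟶ G => η₀ ≫ (DCoh.Rpush (fX)).map x) =
        (adj'.homEquiv _ G) ∘ fun x => u.hom ≫ x := funext fun x => by
      simp [η₀, Adjunction.homEquiv_unit]
    rw [this]
    exact (Equiv.bijective _).comp u.symm.homFromEquiv.bijective
  let s₀ : Dual.HD A (unitD A) 0 ≃ₗ[A] A :=
    ((DerivedCategory.singleFunctorCompHomologyFunctorIso (ModuleCat.{u} A) 0).app (ModuleCat.of A A)).toLinearEquiv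
  let ev : (unitD A ⟶ unitD A) ≃ₗ[A] A := (evUnit A (unitD A)).trans s₀
  let l : (unitD A ⟶ unitD A) ≃ₗ[A] (T.obj (unitD A) ⟶ T.obj (unitD A)) :=
    LinearEquiv.ofBijective (Functor.mapLinearMap A T)
      ((Functor.FullyFaithful.ofFullyFaithful T).map_bijective _ _)
  let push : Coh.HH X F n →ₗ[A] (T.obj (unitD A) ⟶ T.obj (unitD A)) :=
    { toFun := fun y => (eO.hom ≫ η₀ ≫ (DCoh.Rpush (fX)).map (hhHomEquiv F n y)) ≫ p
      map_add' := fun x y => by simp
      map_smul' := fun r x => by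
        rw [RingHom.id_apply, hhHomEquiv_smul, Functor.map_smul, Linear.comp_smul, Linear.comp_smul, Linear.smul_comp] }
  refine ⟨(ev.toLinearMap.comp l.symm.toLinearMap).comp push, fun a => ?_⟩
  obtain ⟨x, hx⟩ := h1.2 (eO.inv ≫ l (ev.symm a) ≫ s)
  have hx' : η₀ ≫ (DCoh.Rpush (fX)).map x = eO.inv ≫ l (ev.symm a) ≫ s := hx
  refine ⟨(hhHomEquiv F n).symm x, ?_⟩
  show ev (l.symm ((eO.hom ≫ η₀ ≫ (DCoh.Rpush (fX)).map (hhHomEquiv F n ((hhHomEquiv F n).symm x))) ≫ p)) = a
  rw [AddEquiv.apply_symm_apply, hx', Iso.hom_inv_id_assoc, Category.assoc, hps, Category.comp_id,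
    LinearEquiv.symm_apply_apply, LinearEquiv.apply_symm_apply]

/-- base change of a split map -/
theorem exists_functional_of_split_baseChange {A₀ : Type u} [CommRing A₀] {X₀ : Scheme.{u}}
    (f₀ : X₀ ⟶ Spec (CommRingCat.of A₀)) [QuasiCompact f₀] [QuasiSeparated f₀] [DCoh.HasRpush f₀]
    (φ : A₀ →+* A) (g' : X ⟶ X₀) (sq : IsPullback g' (fX) f₀ (Spec.map (CommRingCat.ofHom φ)))
    (ω : X₀.Modules) (hω : Coh.IsQCoh ω) (hfl : FlatMod.IsFlatOver f₀ ω) (n : ℕ)
    (p : (DCoh.Rpush f₀).obj ((DCoh.inD X₀ ω)⟦(n : ℤ)⟧) ⟶ (DCoh.tildeD (CommRingCat.of A₀)).obj (unitD A₀))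
    (s : (DCoh.tildeD (CommRingCat.of A₀)).obj (unitD A₀) ⟶ (DCoh.Rpush f₀).obj ((DCoh.inD X₀ ω)⟦(n : ℤ)⟧))
    (hps : s ≫ p = 𝟙 _) :
    ∃ (F : X.Modules), Coh.IsQCoh F ∧ ∃ g : Coh.HH X F n →ₗ[A] A, Function.Surjective g := by
  let q := Spec.map (CommRingCat.ofHom φ)
  haveI := KFlat.hasLpull q
  obtain ⟨u₀⟩ := PerfPush.nonempty_lpull_unit q
  let F := (Scheme.Modules.pullback g').obj ω
  haveI : (Scheme.Modules.pullback g').IsLeftAdjoint := (Scheme.Modules.pullbackPushforwardAdjunction g').isLeftAdjoint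
  let m : ℤ := -(n : ℤ)
  let L := (HomologicalComplex.single X₀.Modules (ComplexShape.up ℤ) m).obj ω
  have hL : ∀ i, i ≠ m → IsZero (L.X i) := fun i hi => HomologicalComplex.isZero_single_obj_X _ _ _ _ hi
  obtain ⟨bc⟩ := HTorBC.nonempty_baseChange_cx (f := f₀) (g₀ := q) (f' := fX) (g' := g') sq L
    (fun i => by
      by_cases hi : i = m
      · subst hi
        exact QC.isQCoh_of_iso (HomologicalComplex.singleObjXSelf (ComplexShape.up ℤ) m ω).symm hω
      · exact DQCoh.isQCoh_of_isZero (hL i hi))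
    m (fun i hi => hL i (by omega))
    (fun i => by
      by_cases hi : i = m
      · subst hi
        exact fun x => FlatLimMod.isFlatOverAt_of_iso _ (HomologicalComplex.singleObjXSelf (ComplexShape.up ℤ) m ω).symm (hfl x)
      · exact DQCoh.flatOver_of_isZero f₀ (hL i hi))
  let eL : DerivedCategory.Q.obj L ≅ (DCoh.inD X₀ ω)⟦(n : ℤ)⟧ :=
    ((DerivedCategory.singleFunctorIsoCompQ X₀.Modules m).app ω).symm ≪≫
      ((SingleFunctors.shiftIso (DerivedCategory.singleFunctors X₀.Modules) (n : ℤ) m 0 (by omega)).app ω).symm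
  let eF : DerivedCategory.Q.obj (((Scheme.Modules.pullback g').mapHomologicalComplex (ComplexShape.up ℤ)).obj L) ≅
      (DCoh.inD X F)⟦(n : ℤ)⟧ :=
    DerivedCategory.Q.mapIso ((HomologicalComplex.singleMapHomologicalComplex (Scheme.Modules.pullback g')
      (ComplexShape.up ℤ) m).app ω) ≪≫
    ((DerivedCategory.singleFunctorIsoCompQ X.Modules m).app F).symm ≪≫
      ((SingleFunctors.shiftIso (DerivedCategory.singleFunctors X.Modules) (n : ℤ) m 0 (by omega)).app F).symm
  let E := (DCoh.Lpull q).mapIso ((DCoh.Rpush f₀).mapIso eL.symm) ≪≫ bc ≪≫ (DCoh.Rpush (fX)).mapIso eF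
  let eU : (DCoh.Lpull q).obj ((DCoh.tildeD (CommRingCat.of A₀)).obj (unitD A₀)) ≅
      (DCoh.tildeD (CommRingCat.of A)).obj (unitD A) :=
    (DCoh.Lpull q).mapIso (((tilde.functor (CommRingCat.of A₀)).mapDerivedCategorySingleFunctor 0).app (ModuleCat.of A₀ A₀) ≪≫
      (DerivedCategory.singleFunctor _ 0).mapIso (tildeSelf (R := CommRingCat.of A₀))) ≪≫ u₀ ≪≫
    (((tilde.functor (CommRingCat.of A)).mapDerivedCategorySingleFunctor 0).app (ModuleCat.of A A) ≪≫
      (DerivedCategory.singleFunctor _ 0).mapIso (tildeSelf (R := CommRingCat.of A))).symm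
  refine ⟨F, QC.isQCoh_pullback g' hω, exists_functional_of_split F n (E.inv ≫ (DCoh.Lpull q).map p ≫ eU.hom)
    (eU.inv ≫ (DCoh.Lpull q).map s ≫ E.hom) ?_⟩
  simp only [Category.assoc, Iso.hom_inv_id_assoc]
  rw [← Functor.map_comp_assoc, hps, CategoryTheory.Functor.map_id, Category.id_comp, Iso.inv_hom_id]

end Groth.Agent.TraceSurj
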