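import Groth.Agent.TraceSurj.Noeth
import Groth.Agent.TraceSurj.BaseChange
import Groth.Agent.ProperModel.Basic
import Groth.Agent.CMChart.Locus
import Groth.Agent.CMFlat.BaseChange
import Groth.Agent.GrpdSlice.CM
import Groth.Agent.LocalDimBC.Scheme
import Groth.Agent.FibVan.Top
import Groth.Agent.TopDegRep.Basic

/-!
# Surjective functionals on top cohomology of proper flat Cohen-Macaulay schemes over any ring
-/

set_option autoImplicit false
set_option backward.isDefEq.respectTransparency false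
set_option backward.isDefEq.respectTransparency.types false
set_option linter.style.haveILetI false

universe u

open CategoryTheory Limits AlgebraicGeometry

attribute [local instance] HasDerivedCategory.standard

noncomputable section

namespace Groth.Agent.TraceSurj

/-- the conditions on a fibre -/
def Good {X Y : Scheme.{u}} (f : X ⟶ Y) (n : ℕ) (x : X) : Prop :=
  MoreMor.IsCMAt f x ∧ FlatMor.fibreDimAt f x = (n : WithBot ℕ∞)

theorem isOpen_good {X Y : Scheme.{u}} (f : X ⟶ Y) [LocallyOfFinitePresentation f] (n : ℕ) :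
    IsOpen {x : X | Good f n x} :=
  isOpen_iff_forall_mem_open.mpr fun x hx => by
    obtain ⟨d, U, -, hxU, -, -, -, h⟩ := CMChart.exists_cm_nhd f hx.1
    exact ⟨U, fun z hz => ⟨(h z hz).1, ((h z hz).2.trans (h x hxU).2.symm).trans hx.2⟩, U.2, hxU⟩

theorem good_baseChange {X S X' S' : Scheme.{u}} {f : X ⟶ S} {g : S' ⟶ S} {g' : X' ⟶ X} {f' : X' ⟶ S'}
    [LocallyOfFiniteType f] [Flat f] (hsq : IsPullback g' f' f g) (n : ℕ) (x' : X') :
    Good f' n x' ↔ Good f n (g' x') := by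
  haveI := GrpdSlice.isLocallyNoetherian_fiber f (g (f' x'))
  rw [Good, Good, LocalDimBC.fibreDimAt_of_isPullback f g g' f' hsq x']
  exact ⟨fun h => ⟨CMFlat.isCMAt_of_baseChange hsq x' (Or.inr inferInstance) (Flat.stalkMap f _) h.1, h.2⟩,
    fun h => ⟨CMFlat.isCMAt_baseChange hsq x' (Or.inr inferInstance) h.1, h.2⟩⟩

/-- **a model over a Noetherian ring with good fibres** -/
theorem exists_good_model {A : Type u} [CommRing A] {X : Scheme.{u}} [X.Over (Spec (CommRingCat.of A))]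
    [IsProper (X ↘ Spec (CommRingCat.of A))] [Flat (X ↘ Spec (CommRingCat.of A))]
    [LocallyOfFinitePresentation (X ↘ Spec (CommRingCat.of A))] [Surjective (X ↘ Spec (CommRingCat.of A))]
    (n : ℕ) (hgood : ∀ x : X, Good (X ↘ Spec (CommRingCat.of A)) n x) :
    ∃ (A₁ : Subalgebra ℤ A) (X₁ : Scheme.{u}) (f₁ : X₁ ⟶ Spec (CommRingCat.of A₁)) (g₁ : X ⟶ X₁),
      IsNoetherianRing A₁ ∧ IsProper f₁ ∧ Flat f₁ ∧ LocallyOfFinitePresentation f₁ ∧ Surjective f₁ ∧
      IsPullback g₁ (X ↘ Spec (CommRingCat.of A)) f₁ (Spec.map (CommRingCat.ofHom (algebraMap A₁ A))) ∧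
      ∀ x : X₁, Good f₁ n x := by
  classical
  let fX := X ↘ Spec (CommRingCat.of A)
  obtain ⟨A₀, hA₀, X₀, f₀, g, hp₀, hfl₀, hlfp₀, hsq⟩ := ProperModel.exists_model fX
  haveI := hp₀; haveI := hfl₀; haveI := hlfp₀
  let q : Spec (CommRingCat.of A) ⟶ Spec (CommRingCat.of A₀) := Spec.map (CommRingCat.ofHom (algebraMap A₀ A))
  haveI : IsNoetherianRing A₀ :=
    Algebra.FiniteType.isNoetherianRing ℤ A₀ (h := A₀.fg_iff_finiteType.1 hA₀)
  have hopen : IsOpen (Set.range f₀ ∩ (f₀ '' {x | Good f₀ n x}ᶜ)ᶜ) :=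
    f₀.isOpenMap.isOpen_range.inter (f₀.isClosedMap _ (isOpen_good f₀ n).isClosed_compl).isOpen_compl
  obtain ⟨J, hJ⟩ := (PrimeSpectrum.isClosed_iff_zeroLocus_ideal _).1 hopen.isClosed_compl
  have hq : ∀ z : Spec (CommRingCat.of A), q z ∈ (Set.range f₀ ∩ (f₀ '' {x | Good f₀ n x}ᶜ)ᶜ) := fun z => by
    obtain ⟨x, hx⟩ := fX.surjective z
    have h1 : f₀ (g x) = q z := by
      rw [← hx, ← Scheme.Hom.comp_apply, hsq.w, Scheme.Hom.comp_apply]
    refine ⟨⟨g x, h1⟩, ?_⟩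
    rintro ⟨x₀, hx₀, hx₀'⟩
    obtain ⟨w, hw₁, -⟩ := Scheme.Pullback.exists_preimage_pullback (f := f₀) (g := q) x₀ z hx₀'
    apply hx₀
    have h2 := (good_baseChange hsq n (hsq.isoPullback.inv w)).1 (hgood _)
    rwa [← Scheme.Hom.comp_apply, IsPullback.isoPullback_inv_fst, hw₁] at h2
  have htop : J.map (algebraMap A₀ A) = ⊤ := by
    by_contra hne
    obtain ⟨P, hP, hle⟩ := Ideal.exists_le_maximal _ hne
    have h1 := hq ⟨P, hP.isPrime⟩
    have h2 : q ⟨P, hP.isPrime⟩ ∈ PrimeSpectrum.zeroLocus (J : Set A₀) := Ideal.map_le_iff_le_comap.1 hle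
    rw [← hJ] at h2
    exact h2 h1
  obtain ⟨m, h, hh⟩ := Submodule.fg_iff_exists_fin_generating_family.1 (IsNoetherian.noetherian J)
  have h1A : (1 : A) ∈ Ideal.span (Set.range fun i => algebraMap A₀ A (h i)) := by
    have : J.map (algebraMap A₀ A) = Ideal.span (Set.range fun i => algebraMap A₀ A (h i)) := by
      rw [← hh, ← Ideal.span, Ideal.map_span, ← Set.range_comp]
      rfl
    rw [← this, htop]
    trivial
  obtain ⟨a, ha⟩ := Ideal.mem_span_range_iff_exists_fun.1 h1A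
  let A₁ : Subalgebra ℤ A := A₀ ⊔ Algebra.adjoin ℤ (Set.range a)
  have hA₁ : A₁.FG := hA₀.sup (Subalgebra.fg_def.2 ⟨Set.range a, Set.finite_range a, rfl⟩)
  haveI : IsNoetherianRing A₁ :=
    Algebra.FiniteType.isNoetherianRing ℤ A₁ (h := A₁.fg_iff_finiteType.1 hA₁)
  let ι₀ : A₀ →+* A₁ := (Subalgebra.inclusion le_sup_left).toRingHom
  let r : Spec (CommRingCat.of A₁) ⟶ Spec (CommRingCat.of A₀) := Spec.map (CommRingCat.ofHom ι₀)
  let q₁ : Spec (CommRingCat.of A) ⟶ Spec (CommRingCat.of A₁) := Spec.map (CommRingCat.ofHom (algebraMap A₁ A))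
  have hqr : q₁ ≫ r = q := by
    rw [← Spec.map_comp, ← CommRingCat.ofHom_comp]
    rfl
  let X₁ := pullback f₀ r
  let f₁ : X₁ ⟶ Spec (CommRingCat.of A₁) := pullback.snd f₀ r
  letI : X₁.Over (Spec (CommRingCat.of A₁)) := ⟨f₁⟩
  let g₁ : X ⟶ X₁ := pullback.lift g (fX ≫ q₁) (by rw [Category.assoc, hqr, hsq.w])
  have hsq₁ : IsPullback g₁ fX f₁ q₁ := by
    refine IsPullback.of_right (h₁₂ := pullback.fst f₀ r) (h₂₂ := r) ?_ (pullback.lift_snd _ _ _)
      (IsPullback.of_hasPullback f₀ r)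
    rw [pullback.lift_fst, hqr]
    exact hsq
  haveI : IsProper f₁ := MorphismProperty.pullback_snd _ _ inferInstance
  haveI : Flat f₁ := MorphismProperty.pullback_snd _ _ inferInstance
  haveI : LocallyOfFinitePresentation f₁ := MorphismProperty.pullback_snd _ _ inferInstance
  haveI : IsProper (X₁ ↘ Spec (CommRingCat.of A₁)) := ‹IsProper f₁›
  haveI : Flat (X₁ ↘ Spec (CommRingCat.of A₁)) := ‹Flat f₁›
  have hr : ∀ z, r z ∈ (Set.range f₀ ∩ (f₀ '' {x | Good f₀ n x}ᶜ)ᶜ) := fun z => by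
    by_contra hne
    have h2 : r z ∈ PrimeSpectrum.zeroLocus (J : Set A₀) := hJ ▸ hne
    refine z.isPrime.ne_top ((Ideal.eq_top_iff_one _).2 ?_)
    let b : Fin m → A₁ := fun i => ⟨a i, (le_sup_right : _ ≤ A₁) (Algebra.subset_adjoin ⟨i, rfl⟩)⟩
    have hb : (∑ i, b i * ι₀ (h i)) = 1 := Subtype.ext (by
      push_cast
      exact ha)
    rw [← hb]
    exact Ideal.sum_mem _ fun i _ => Ideal.mul_mem_left _ _
      (h2 (hh ▸ Submodule.subset_span (Set.mem_range_self i) : h i ∈ J))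
  have hgood₁ : ∀ x : X₁, Good f₁ n x := fun x => by
    refine (good_baseChange (IsPullback.of_hasPullback f₀ r) n x).2 ?_
    by_contra hne
    refine (hr (f₁ x)).2 ⟨pullback.fst f₀ r x, hne, ?_⟩
    rw [← Scheme.Hom.comp_apply, pullback.condition, Scheme.Hom.comp_apply]
  haveI : Surjective (X₁ ↘ Spec (CommRingCat.of A₁)) := ⟨fun z => by
    obtain ⟨x₀, hx₀⟩ := (hr z).1
    obtain ⟨w, -, hw⟩ := Scheme.Pullback.exists_preimage_pullback (f := f₀) (g := r) x₀ z hx₀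
    exact ⟨w, hw⟩⟩
  exact ⟨A₁, X₁, f₁, g₁, inferInstance, inferInstance, inferInstance, inferInstance, ‹Surjective (X₁ ↘ Spec (CommRingCat.of A₁))›, hsq₁, hgood₁⟩

/-- **surjective functionals on top cohomology** -/
theorem exists_surjective_functional {A : Type u} [CommRing A] {X : Scheme.{u}} [X.Over (Spec (CommRingCat.of A))]
    [IsProper (X ↘ Spec (CommRingCat.of A))] [Flat (X ↘ Spec (CommRingCat.of A))]
    [LocallyOfFinitePresentation (X ↘ Spec (CommRingCat.of A))] [Surjective (X ↘ Spec (CommRingCat.of A))]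
    (n : ℕ) (hgood : ∀ x : X, Good (X ↘ Spec (CommRingCat.of A)) n x) :
    ∃ (F : X.Modules), Coh.IsQCoh F ∧ ∃ g : Coh.HH X F n →ₗ[A] A, Function.Surjective g := by
  let fX := X ↘ Spec (CommRingCat.of A)
  obtain ⟨A₁, X₁, f₁, g₁, hN, hp₁, hfl₁, hlfp₁, hsurj₁, hsq₁, hgood₁⟩ := exists_good_model n hgood
  haveI := hN; haveI := hp₁; haveI := hfl₁; haveI := hlfp₁
  letI : X₁.Over (Spec (CommRingCat.of A₁)) := ⟨f₁⟩
  haveI : IsProper (X₁ ↘ Spec (CommRingCat.of A₁)) := hp₁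
  haveI : Flat (X₁ ↘ Spec (CommRingCat.of A₁)) := hfl₁
  haveI : Surjective (X₁ ↘ Spec (CommRingCat.of A₁)) := hsurj₁
  haveI := DCohShriek.isNoetherian_of_proper f₁
  haveI : QuasiCompact f₁ := quasiCompact_of_compactSpace f₁
  haveI : DCoh.HasRpush (X₁ ↘ Spec (CommRingCat.of A₁)) := DerPush.hasRpush_sch f₁
  haveI : DCoh.HasRpush f₁ := ‹DCoh.HasRpush (X₁ ↘ Spec (CommRingCat.of A₁))›
  haveI : CompactSpace X := QuasiCompact.compactSpace_of_compactSpace fX
  haveI : DCoh.HasRpush (X ↘ Spec (CommRingCat.of A)) := DerPush.hasRpush_sch fX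
  have hf : DCoh.RpushPreservesQCoh f₁ := fun E hE => DQPush.isQCohD_rpush f₁ hE
  haveI : (DCoh.RpushQ (X₁ ↘ Spec (CommRingCat.of A₁)) hf).IsLeftAdjoint := DCohShriek.isLeftAdjoint_rpushQ f₁ hf
  have hvan : ∀ F : X₁.Modules, Coh.IsQCoh F → ∀ p : ℕ, n < p → Subsingleton (Coh.HH X₁ F p) := fun F hF p hp =>
    FibVan.subsingleton_hh_affine f₁ n (fun y => TopDegRep.topologicalKrullDim_le_of_components _ n
      fun Z hZ => LocalDimBC.hasRelDim_of_fibreDimAt f₁ n (fun x => (hgood₁ x).2) y Z hZ) F hF p hp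
  obtain ⟨ω, hω, hωfl, p, s, hps⟩ := exists_split_trace (X := X₁) (A := A₁) (hf := hf)
    (Adjunction.ofIsLeftAdjoint _) (fun x => (hgood₁ x).1) n (fun x => (hgood₁ x).2) hvan
  exact exists_functional_of_split_baseChange f₁ (algebraMap A₁ A) g₁ hsq₁ ω hω.1 hωfl n p s hps

end Groth.Agent.TraceSurj
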